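import Mathlib
import Cfsg.Agent.Base
import Cfsg.Agent.Lib.MinDeg8.U3Main
import Cfsg.Agent.Lib.ClGeo.Heart

/-!
A computable field with 25 elements and a subgroup of index 50 in `PSU₃(5)`.
-/

set_option autoImplicit false
set_option maxRecDepth 100000

namespace H8

/-- the field with 25 elements: `mk (a + 5 b)` is `a + b s`, `s² = 2` -/
structure F25 : Type where
  val : Fin 25
  deriving DecidableEq

namespace F25

instance instFintypeF25 : Fintype F25 where
  elems := ⟨↑((List.finRange 25).map mk), by decide⟩
  complete := by rintro ⟨x⟩; revert x; decide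

/-- reduction of a code -/
def ofN (n : ℕ) : F25 := ⟨Fin.ofNat 25 n⟩

instance instZeroF25 : Zero F25 := ⟨mk 0⟩
instance instOneF25 : One F25 := ⟨mk 1⟩
instance instAddF25 : Add F25 :=
  ⟨fun a b => ofN ((a.val.1 + b.val.1) % 5 + 5 * (a.val.1 / 5 + b.val.1 / 5))⟩
instance instMulF25 : Mul F25 := ⟨fun a b =>
  ofN ((a.val.1 * b.val.1 + 2 * (a.val.1 / 5) * (b.val.1 / 5)) % 5 +
    5 * (a.val.1 * (b.val.1 / 5) + (a.val.1 / 5) * b.val.1))⟩
instance instNegF25 : Neg F25 := ⟨fun a => mk 4 * a⟩
instance instInvF25 : Inv F25 := ⟨fun a => (a * a * a * a * a) * (a * a * a * a * a * a) *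
  (a * a * a * a * a * a) * (a * a * a * a * a * a)⟩

instance instCommRingF25 : CommRing F25 where
  add_assoc := by decide +kernel
  zero_add := by decide +kernel
  add_zero := by decide +kernel
  nsmul := nsmulRec
  zsmul := zsmulRec
  neg_add_cancel := by decide +kernel
  add_comm := by decide +kernel
  left_distrib := by decide +kernel
  right_distrib := by decide +kernel
  zero_mul := by decide +kernel
  mul_zero := by decide +kernel
  mul_assoc := by decide +kernel
  one_mul := by decide +kernel
  mul_one := by decide +kernel
  mul_comm := by decide +kernel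

instance instFieldF25 : Field F25 where
  exists_pair_ne := ⟨mk 0, mk 1, by decide⟩
  mul_inv_cancel := by decide +kernel
  inv_zero := by decide +kernel
  nnqsmul := _
  nnqsmul_def := fun _ _ => rfl
  qsmul := _
  qsmul_def := fun _ _ => rfl

theorem card_eq : Fintype.card F25 = 25 := rfl

instance instIsSqF25 : H11.U.IsSq F25 5 := ⟨rfl⟩

end F25

theorem mul_card_dvd_of_normalises {Γ : Type*} [Group Γ] [Finite Γ] {p : ℕ} (hp : p.Prime)
    {D X : Subgroup Γ} (hD : D ≤ X) {y : Γ} (hy : y ∈ X) (hn : y ∈ Subgroup.normalizer (D : Set Γ))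
    (h1 : y ∉ D) (h2 : y ^ p = 1) : p * Nat.card D ∣ Nat.card X := by
  haveI := Fact.mk hp
  let N := X ⊓ Subgroup.normalizer (D : Set Γ)
  have hDN : D ≤ N := le_inf hD Subgroup.le_normalizer
  haveI : (D.subgroupOf N).Normal := Subgroup.normal_subgroupOf_of_le_normalizer inf_le_right
  have h3 : orderOf ((⟨y, hy, hn⟩ : N) : N ⧸ D.subgroupOf N) = p := by
    refine orderOf_eq_prime ?_ fun h0 => h1 ((QuotientGroup.eq_one_iff (⟨y, hy, hn⟩ : N)).1 h0)
    rw [← QuotientGroup.mk_pow, show (⟨y, hy, hn⟩ : N) ^ p = 1 from Subtype.ext h2, QuotientGroup.mk_one]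
  refine dvd_trans ?_ (Subgroup.card_dvd_of_le (inf_le_left : N ≤ X))
  rw [← (D.subgroupOf N).card_mul_index, mul_comm,
    Nat.card_congr (Subgroup.subgroupOfEquivOfLe hDN).toEquiv]
  exact Nat.mul_dvd_mul_left _ (h3 ▸ orderOf_dvd_natCard _)

theorem dvd_card_of_mem {Γ : Type*} [Group Γ] {K : Subgroup Γ} {x : Γ} {n : ℕ} (h : orderOf x = n)
    (hx : x ∈ K) : n ∣ Nat.card K := h ▸ Subgroup.orderOf_dvd_natCard K hx

namespace U35

open F25 Matrix Cfsg H11.U U3

/-- an orbit of 630 vectors of norm one -/
def mask : ℕ := 0x808000000000000000000000000004800000010004000200000020000000000008000040200200008000000000000028000000000000000000000000000804200000000004000800000040000000000002001400800900000000000000000000000800000080000000000210000800040000200000100080041810000000000400040100040000000000300000040000000000000000040000000000000000800900c08000000000000000000000000002000200000000008002000200100004000002000006000800500000000002100100010000000002000100100000000000000000000100000000000000000000000000040008040000000000802000000840000000800000000000200000040040004000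008000000000000000000000000000a00008000000040000808000000000004008000000000004000000000000040000000000000000000002000001000000000010010000004010000000100000000800000000040000101003000000000200000020001000000204000000010000004820800000000000000000000000800000000000000002000001000000000004040000002000080004000000000400000000000403000000080080000800000010040000800000000400000080002410010004000800000002002000000002000002012000040000000020000020000800000000122000000000080000080000100802000002000000020002000004000820000020042000000000000000000200000080000200000840000001000001000000000800110010000010000200000000000240001080000000001000000081000001000000100010001000000000001002010000000092000000000020000000000000000000800000000000000020000010000000000030000000000400020000008000000080000020000000020020008080800000000002000080000004000001000020000482000000000210008002000000000010010004040020000010000030000202040000000010000004000000000010001000000002040400001600000000000000040000000000000000010000000000000008000800040200100000200000004000002800000200000000000400000000000000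020000010000000000030008000000000000000000200000000000100000000001000000440000006400000040200000200004000000040010000000080000122000000000020010000000020040008200000004000000020000108000020000080000020000200000240000800200002000800000000000000200000000100002000040004000100004000000000240001000008004000000010000000000002482000000010000002000100000008000000400900000000000001080000000084000880000008000000080040006000000008000000800000400080080000000000080000000000004000002000000000000080004000004000000000000000008000000040000008000000004000004000c800000000018100008005000000000000000000000000800000010000000100010000300000200000100000800044004800000001000400010800000000010008000008000000000000000040000000000280000000000000000000000000400000004001008000000a0000000000008000000108000002000000004000000040008000000000000000000000008000800200000000404000080000000000000000400040002100000000000101003000002000001000000020022040400000000020000100000000000100040000000000058040408000000000000001000000000000000000020000000000000000100040100010000000003000000080082000001000000008080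001600000000080000008000000000001080000000040408010202000000000000000080000000000000000080000000000000000000000000000000a00000000200000800020000100010800000000000200000020000000400800008000000000000000000000000000808000000040000040200040000000010800000000000000800300002000108000000000020000012000000001000000002000000000000200000100000000000001000800008000000000000000000040000000000800000040800000100000032000004200000040000100000040000001000040004000820000000000080040000100000240000800000040000000000800800201000000080000000040000800000244020000000804000000000000000000000000000000000808000000200800000000020001002000004000000000001000200001080008000000000000000000000000000000200040000040020000005000000000002000200000004000800000000000000000004000000000400042000010000000001000000000000402000800000080004000000000404000000000000000000000800000000804000000001400000080000000000000040040000000100004008010000000080000000000092000020010000040000000000004000880004000004000080000020000080000010800100000000000002000200080048000200000000000000000000000000000000004820002410000000000000000482000000006400000000000000000c8000000000000000000000000000000000003200000000000000000000000000000000000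

/-- membership in the orbit -/
def O (v : Fin 3 → F25) : Prop := mask.testBit ((v 0).val.1 + 25 * (v 1).val.1 + 625 * (v 2).val.1) = true

instance instDecidableO (v : Fin 3 → F25) : Decidable (O v) := inferInstanceAs (Decidable (_ = _))

/-- the stabiliser of the orbit, as a monoid -/
def XM : Submonoid (SU 3 F25 5) where
  carrier := {g | ∀ v, O v → O (ac g v)}
  one_mem' := fun v hv => by rwa [ac_one]
  mul_mem' := fun {a b} ha hb v hv => by rw [ac_mul]; exact ha _ (hb v hv)

/-- the stabiliser of the orbit -/
def X : Subgroup (SU 3 F25 5) where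
  toSubmonoid := XM
  inv_mem' := fun {g} hg => by
    obtain ⟨n, hn⟩ := mem_powers_iff_mem_zpowers.2 (inv_mem (Subgroup.mem_zpowers g))
    rw [← hn]
    exact XM.pow_mem hg n

/-- the check for an explicit matrix -/
def Chk (A : Matrix (Fin 3) (Fin 3) F25) : Prop :=
  Aᵀ * A.map (· ^ 5) = 1 ∧ A.det = 1 ∧ ∀ a b c : Fin 25, O ![mk a, mk b, mk c] → O (A *ᵥ ![mk a, mk b, mk c])

instance instDecidableChk (A : Matrix (Fin 3) (Fin 3) F25) : Decidable (Chk A) :=
  inferInstanceAs (Decidable (_ ∧ _ ∧ _))

/-- the element given by a checked matrix -/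
def el (A : Matrix (Fin 3) (Fin 3) F25) (h : Chk A) : SU 3 F25 5 := toSU A (isIso_iff.2 h.1) h.2.1

theorem el_mem {A : Matrix (Fin 3) (Fin 3) F25} (h : Chk A) : el A h ∈ X := fun v hv => by
  have : v = ![mk (v 0).val, mk (v 1).val, mk (v 2).val] := by ext i; fin_cases i <;> rfl
  rw [this] at hv ⊢
  exact h.2.2 _ _ _ hv

theorem ac_el {A : Matrix (Fin 3) (Fin 3) F25} (h : Chk A) (v : Fin 3 → F25) : ac (el A h) v = A *ᵥ v := rfl

theorem el_St {A : Matrix (Fin 3) (Fin 3) F25} (h : Chk A) {v : Fin 3 → F25} (a : F25)
    (h1 : A *ᵥ v = a • v) : el A h ∈ St 5 v := ⟨a, h1⟩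

theorem el_Fx {A : Matrix (Fin 3) (Fin 3) F25} (h : Chk A) {v : Fin 3 → F25}
    (h1 : A *ᵥ v = v) : el A h ∈ Fx 5 v := h1

theorem el_Lam {A : Matrix (Fin 3) (Fin 3) F25} (h : Chk A) {Y : Subgroup (SU 3 F25 5)} (hY : el A h ∈ Y)
    {v : Fin 3 → F25} (hv : v ≠ 0) (a : F25ˣ) (h1 : A *ᵥ v = a.1 • v) : a ∈ Lam Y hv :=
  (mem_Lam hv).2 ⟨_, hY, h1⟩

theorem el_pow {A : Matrix (Fin 3) (Fin 3) F25} (h : Chk A) (n : ℕ) : el A h ^ n = 1 ↔ A ^ n = 1 := by
  have : (el A h ^ n).1.1 = A ^ n := Matrix.SpecialLinearGroup.coe_pow (el A h).1 n
  exact ⟨fun h0 => by rw [← this, h0]; rfl, fun h0 => Subtype.ext (Subtype.ext (this.trans h0))⟩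

theorem el_eq_one {A : Matrix (Fin 3) (Fin 3) F25} (h : Chk A) : el A h = 1 ↔ A = 1 := by
  simpa using el_pow h 1

theorem orderOf_el {A : Matrix (Fin 3) (Fin 3) F25} (h : Chk A) {p : ℕ} (hp : p.Prime)
    (h1 : A ^ p = 1 ∧ A ≠ 1) : orderOf (el A h) = p := by
  haveI := Fact.mk hp
  exact orderOf_eq_prime ((el_pow h p).2 h1.1) (fun h0 => h1.2 ((el_eq_one h).1 h0))

/-- a generator -/
def y7 : Matrix (Fin 3) (Fin 3) F25 := !![mk 21, mk 19, mk 2; mk 5, mk 1, mk 7; mk 2, mk 10, mk 0]
theorem y7_chk : Chk y7 := by decide +kernel
/-- a generator -/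
def y5 : Matrix (Fin 3) (Fin 3) F25 := !![mk 0, mk 22, mk 6; mk 3, mk 19, mk 24; mk 15, mk 13, mk 14]
theorem y5_chk : Chk y5 := by decide +kernel
/-- a generator -/
def r4 : Matrix (Fin 3) (Fin 3) F25 := !![mk 15, mk 15, mk 8; mk 15, mk 8, mk 15; mk 7, mk 8, mk 8]
theorem r4_chk : Chk r4 := by decide +kernel
/-- a generator -/
def s2 : Matrix (Fin 3) (Fin 3) F25 := !![mk 0, mk 20, mk 19; mk 5, mk 2, mk 21; mk 14, mk 6, mk 2]
theorem s2_chk : Chk s2 := by decide +kernel
/-- a generator -/
def x3 : Matrix (Fin 3) (Fin 3) F25 := !![mk 1, mk 0, mk 0; mk 0, mk 12, mk 0; mk 0, mk 0, mk 17]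
theorem x3_chk : Chk x3 := by decide +kernel
/-- a generator -/
def y3 : Matrix (Fin 3) (Fin 3) F25 := !![mk 0, mk 0, mk 1; mk 1, mk 0, mk 0; mk 0, mk 1, mk 0]
theorem y3_chk : Chk y3 := by decide +kernel
/-- a generator -/
def z3 : Matrix (Fin 3) (Fin 3) F25 := !![mk 12, mk 0, mk 0; mk 0, mk 12, mk 0; mk 0, mk 0, mk 12]
theorem z3_chk : Chk z3 := by decide +kernel

theorem center_le : Subgroup.center (SU 3 F25 5) ≤ X := by
  have h1 : el z3 z3_chk ∈ Subgroup.center (SU 3 F25 5) :=
    (mem_center_SU_iff (by norm_num)).2 ⟨mk 12, (by decide +kernel : z3 = mk 12 • (1 : Matrix (Fin 3) (Fin 3) F25))⟩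
  rw [← Subgroup.eq_of_le_of_card_ge (Subgroup.zpowers_le.2 h1) (by
    rw [card_center_SU (by norm_num), Nat.card_zpowers,
      orderOf_el z3_chk Nat.prime_three (by decide +kernel)]; norm_num)]
  exact Subgroup.zpowers_le.2 (el_mem _)

theorem ne_top : X ≠ ⊤ := fun h => by
  obtain ⟨g, hg⟩ := exists_su_norm (F := F25) (q := 5) (n := 3) (by norm_num)
    (u := ![mk 0, mk 5, mk 16]) (u' := ![mk 0, mk 0, mk 1]) (by decide +kernel) (by decide +kernel)
  have h1 : g ∈ X := by rw [h]; trivial
  have h2 := h1 ![mk 0, mk 5, mk 16] (by decide +kernel)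
  rw [ac, hg] at h2
  exact absurd h2 (by decide +kernel)

theorem eight_dvd : 8 ∣ Nat.card X := by
  have hw : (![mk 0, mk 5, mk 16] : Fin 3 → F25) ≠ 0 := by decide +kernel
  refine dvd_trans ?_ (Subgroup.card_dvd_of_le (inf_le_left : X ⊓ St 5 ![mk 0, mk 5, mk 16] ≤ X))
  rw [card_inf_St X hw]
  refine Nat.mul_dvd_mul (a := 2 ^ (1 + 1)) (c := 2) ?_ ?_
  · have h1 : orderOf (el r4 r4_chk) = 2 ^ (1 + 1) :=
      orderOf_eq_prime_pow (by rw [el_pow]; decide +kernel) (by rw [el_pow]; decide +kernel)
    exact dvd_card_of_mem h1 (Subgroup.mem_inf.2 ⟨el_mem _, el_Fx _ (by decide +kernel)⟩)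
  · have h1 : orderOf (-1 : F25ˣ) = 2 := orderOf_eq_prime (by simp) (by decide +kernel)
    exact dvd_card_of_mem h1 (el_Lam s2_chk (el_mem _) hw _ (by decide +kernel))

/-- basis vector -/
def e₁ : Fin 3 → F25 := ![mk 1, mk 0, mk 0]
/-- basis vector -/
def e₂ : Fin 3 → F25 := ![mk 0, mk 1, mk 0]
/-- basis vector -/
def e₃ : Fin 3 → F25 := ![mk 0, mk 0, mk 1]

theorem dvd_27 : 27 ∣ Nat.card X := by
  have hw : e₁ ≠ 0 := by decide +kernel
  have h9 : 9 ∣ Nat.card ↥((X ⊓ St 5 e₂ ⊓ St 5 e₃) ⊓ St 5 e₁) := by
    rw [card_inf_St _ hw]
    refine Nat.mul_dvd_mul (a := 3) (c := 3) ?_ ?_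
    · exact dvd_card_of_mem (orderOf_el x3_chk Nat.prime_three (by decide +kernel))
        (Subgroup.mem_inf.2 ⟨Subgroup.mem_inf.2 ⟨Subgroup.mem_inf.2 ⟨el_mem _,
          el_St _ (mk 12) (by decide +kernel)⟩, el_St _ (mk 17) (by decide +kernel)⟩,
          el_Fx _ (by decide +kernel)⟩)
    · have h0 : mk 12 ≠ 0 := by decide +kernel
      have h1 : orderOf (Units.mk0 (mk 12) h0) = 3 := by
        rw [← orderOf_units, Units.val_mk0]
        exact orderOf_eq_prime (by decide +kernel) (by decide +kernel)
      refine dvd_card_of_mem h1 (el_Lam z3_chk (Subgroup.mem_inf.2 ⟨Subgroup.mem_inf.2 ⟨el_mem _,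
          el_St _ (mk 12) (by decide +kernel)⟩, el_St _ (mk 12) (by decide +kernel)⟩) hw _ ?_)
      rw [Units.val_mk0]
      decide +kernel
  have a1 : ac (el y3 y3_chk) e₁ = e₂ := by rw [ac_el]; decide +kernel
  have a2 : ac (el y3 y3_chk) e₂ = e₃ := by rw [ac_el]; decide +kernel
  have a3 : ac (el y3 y3_chk) e₃ = e₁ := by rw [ac_el]; decide +kernel
  refine dvd_trans (Nat.mul_dvd_mul_left 3 h9) (mul_card_dvd_of_normalises Nat.prime_three
    (inf_le_left.trans (inf_le_left.trans inf_le_left)) (el_mem y3_chk) ?_ ?_
    ((el_pow _ _).2 (by decide +kernel)))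
  · rw [Subgroup.mem_normalizer_iff'']
    intro g
    simp only [Subgroup.mem_inf, conj_mem_St, a1, a2, a3]
    have : (el y3 y3_chk)⁻¹ * g * el y3 y3_chk ∈ X ↔ g ∈ X := by
      rw [mul_mem_cancel_right (el_mem _), mul_mem_cancel_left (inv_mem (el_mem _))]
    tauto
  · intro h
    obtain ⟨a, ha⟩ := mem_St.1 (Subgroup.mem_inf.1 h).2
    rw [a1] at ha
    exact (by decide +kernel : ∀ a : F25, e₂ ≠ a • e₁) a ha

theorem index_X : X.index = 50 := by
  have h1 := min_index_five rfl (X.map (QuotientGroup.mk' _)) (fun h0 => by
    have := index_map_mk center_le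
    rw [h0, Subgroup.index_top] at this
    exact ne_top (Subgroup.index_eq_one.1 this.symm))
  rw [index_map_mk center_le] at h1
  have h7 : 7 ∣ Nat.card X :=
    dvd_card_of_mem (orderOf_el y7_chk (by norm_num) (by decide +kernel)) (el_mem _)
  have h5 : 5 ∣ Nat.card X :=
    dvd_card_of_mem (orderOf_el y5_chk (by norm_num) (by decide +kernel)) (el_mem _)
  have h2 : 8 * 27 * 5 * 7 ∣ Nat.card X :=
    Nat.Coprime.mul_dvd_of_dvd_of_dvd (by norm_num) (Nat.Coprime.mul_dvd_of_dvd_of_dvd (by norm_num)
      (Nat.Coprime.mul_dvd_of_dvd_of_dvd (by norm_num) eight_dvd dvd_27) h5) h7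
  have h3 := X.card_mul_index
  rw [card_G] at h3
  have h4 := Nat.le_of_dvd Nat.card_pos h2
  generalize X.index = m at *
  generalize Nat.card X = n at *
  by_contra h6
  have := Nat.mul_le_mul h4 (show 51 ≤ m by omega)
  omega

theorem exists_index_fifty (F : Type*) [Field F] [Fintype F] (hF : Fintype.card F = 25) :
    ∃ H : Subgroup (PSU 3 F 5), H.index = 50 := by
  let e : F25 ≃+* F := FiniteField.ringEquivOfCardEq (card_eq.trans hF.symm)
  refine ⟨(X.map (QuotientGroup.mk' _)).map (H30.psuCongr e 3 5 : PSU 3 F25 5 →* PSU 3 F 5), ?_⟩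
  rw [Subgroup.index_map_equiv, index_map_mk center_le, index_X]

end U35

end H8
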